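import Mathlib
import Cfsg.Agent.Lib.PLemmas.RankTwoOmega
import Cfsg.Agent.Lib.PGroup.Critical
import Cfsg.Agent.Lib.CoprimeOmega.Basic
import Cfsg.Agent.Lib.PSolvable.HallHigman
import Cfsg.Agent.Lib.PSolvable.PSolv
import Cfsg.Agent.Lib.PSolvable.Core
import Cfsg.Agent.Lib.OddUniq.Rank
import Cfsg.Agent.Lib.Coprime.Quotient

/-!
`3`-groups of rank at most two and `{3, p}`-groups, `p ≥ 5`.
-/

set_option autoImplicit false

namespace Cfsg.Agent.Lib.ThreeRankTwo

open Subgroup
open scoped commutatorElement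

variable {G : Type*} [Group G] [Finite G] {p : ℕ}

/-- An element of prime order `p ≥ 5` normalising a small `3`-group of exponent `3` centralises it. -/
theorem commute_of_card_le [hp : Fact p.Prime] (hp5 : 5 ≤ p) {D : Subgroup G}
    (hD : ∀ x ∈ D, x ^ 3 = 1) (hcard : Nat.card D ≤ 27)
    (h27 : Nat.card D = 27 → ¬ IsMulCommutative D) {y : G} (hy : orderOf y = p)
    (hyD : y ∈ normalizer (D : Set G)) : ∀ x ∈ D, y * x = x * y := by
  have : Fact (Nat.Prime 3) := ⟨Nat.prime_three⟩
  have hD3 : IsPGroup 3 D := fun x => ⟨1, Subtype.ext (by push_cast; exact hD x x.2)⟩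
  set Y := zpowers y
  have hYp : IsPGroup p Y := IsPGroup.of_card (n := 1) (by rw [Nat.card_zpowers, hy, pow_one])
  have hYD : Y ≤ normalizer (D : Set G) := zpowers_le.2 hyD
  set F := D ⊓ centralizer (Y : Set G) with hF
  -- fixed points
  let act : MulAction Y D := {
    smul := fun g x => ⟨g * x * (g : G)⁻¹, (mem_normalizer_iff.1 (hYD g.2) x).1 x.2⟩
    one_smul := fun x => Subtype.ext (show ((1 : Y) : G) * x * ((1 : Y) : G)⁻¹ = x by simp)
    mul_smul := fun g h x => Subtype.ext (show ((g * h : Y) : G) * x * ((g * h : Y) : G)⁻¹ =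
      g * ((h : G) * x * (h : G)⁻¹) * (g : G)⁻¹ by simp [mul_assoc]) }
  have hmod : Nat.card D ≡ Nat.card F [MOD p] := by
    have h := hYp.card_modEq_card_fixedPoints (α := D)
    have e : MulAction.fixedPoints Y D ≃ F := {
      toFun := fun x => ⟨x.1.1, x.1.2, mem_centralizer_iff.2 fun g hg =>
        mul_inv_eq_iff_eq_mul.1 (congrArg Subtype.val (x.2 ⟨g, hg⟩))⟩
      invFun := fun x => ⟨⟨x.1, (mem_inf.1 x.2).1⟩, fun g => Subtype.ext
        (mul_inv_eq_iff_eq_mul.2 (mem_centralizer_iff.1 (mem_inf.1 x.2).2 g g.2))⟩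
      left_inv := fun _ => rfl
      right_inv := fun _ => rfl }
    rwa [Nat.card_congr e] at h
  suffices hFD : F = D by
    intro x hx
    rw [← hFD] at hx
    exact mem_centralizer_iff.1 (mem_inf.1 hx).2 y (mem_zpowers y)
  obtain ⟨d, hd⟩ := IsPGroup.iff_card.1 hD3
  obtain ⟨f, hf⟩ := IsPGroup.iff_card.1 (hD3.to_le (inf_le_left : F ≤ D))
  have hfd : f ≤ d := by
    have := card_le_of_le (inf_le_left : F ≤ D)
    rw [← hF, hd, hf] at this
    exact (Nat.pow_le_pow_iff_right (by norm_num)).1 this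
  have hd3 : d ≤ 3 := (Nat.pow_le_pow_iff_right (a := 3) (by norm_num)).1 (by rw [← hd]; omega)
  have hf1 : d = 3 → 1 ≤ f := by
    intro hd'
    subst hd'
    by_contra hf0
    obtain rfl : f = 0 := by omega
    -- `Z(D)` has order three, hence is fixed
    set Z := D ⊓ centralizer (D : Set G) with hZ
    have hZlt : Z < D := lt_of_le_of_ne inf_le_left fun h => h27 hd
      ⟨⟨fun a b => Subtype.ext
        (mem_centralizer_iff.1 (mem_inf.1 (h.ge b.2)).2 a a.2)⟩⟩
    have : Nontrivial D := by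
      rw [nontrivial_iff_ne_bot]
      intro h
      rw [h, card_bot] at hd
      norm_num at hd
    obtain ⟨⟨z, hzc⟩, hz1⟩ := @exists_ne _ hD3.center_nontrivial 1
    have hzZ : (z : G) ∈ Z := ⟨z.2, mem_centralizer_iff.2 fun w hw =>
      congrArg Subtype.val (mem_center_iff.1 hzc ⟨w, hw⟩)⟩
    have hz1' : (z : G) ≠ 1 := fun h => hz1 (Subtype.ext (Subtype.ext h))
    obtain ⟨c, hc⟩ := IsPGroup.iff_card.1 (hD3.to_le (inf_le_left : Z ≤ D))
    have hc2 : c ≤ 1 := by
      by_contra hc2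
      have h9 : 9 ≤ Nat.card Z := by
        rw [hc]
        exact le_trans (by norm_num) (Nat.pow_le_pow_right (show 0 < 3 by norm_num) (show 2 ≤ c by omega))
      -- a central subgroup of index at most three gives an abelian group
      obtain ⟨w, hwD, hwZ⟩ := SetLike.exists_of_lt hZlt
      have hle : D ≤ centralizer ({w} : Set G) := by
        have hsup : Z ⊔ zpowers w = D := by
          refine eq_of_le_of_card_ge (sup_le inf_le_left (zpowers_le.2 hwD)) ?_
          have hlt : Z < Z ⊔ zpowers w :=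
            lt_of_le_of_ne le_sup_left fun h => hwZ (h ▸ mem_sup_right (mem_zpowers w))
          obtain ⟨e, he⟩ := IsPGroup.iff_card.1
            (hD3.to_le (sup_le inf_le_left (zpowers_le.2 hwD) : Z ⊔ zpowers w ≤ D))
          have hlt' : Nat.card Z < Nat.card ↥(Z ⊔ zpowers w) := Set.ncard_lt_ncard hlt (Set.toFinite _)
          rw [he, hc] at hlt'
          have := (Nat.pow_lt_pow_iff_right (by norm_num)).1 hlt'
          rw [he, hd]
          exact Nat.pow_le_pow_right (by norm_num) (by omega)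
        rw [← hsup]
        exact sup_le (fun u hu => mem_centralizer_singleton_iff.2
          (mem_centralizer_iff.1 (mem_inf.1 hu).2 w hwD).symm)
          (zpowers_le.2 (mem_centralizer_singleton_iff.2 rfl))
      exact hwZ ⟨hwD, mem_centralizer_iff.2 fun v hv => mem_centralizer_singleton_iff.1 (hle hv)⟩
    have hZF : Z ≤ F := by
      have hZY : Y ≤ normalizer (Z : Set G) := Coprime.le_normalizer_inf_centralizer hYD hYD
      refine le_inf inf_le_left fun u hu => mem_centralizer_iff.2 fun g hg => ?_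
      obtain ⟨i, rfl⟩ := mem_zpowers_iff.1 hg
      have hfix : y * u = u * y := by
        by_contra hne
        have hu' : y * u * y⁻¹ ∈ Z := (mem_normalizer_iff.1 (hZY (mem_zpowers y)) u).1 hu
        have hu1 : u ≠ 1 := fun h => hne (by rw [h, mul_one, one_mul])
        have hZu : zpowers u = Z := by
          refine eq_of_le_of_card_ge (zpowers_le.2 hu) ?_
          rw [Nat.card_zpowers, orderOf_eq_prime (hD u (mem_inf.1 hu).1) hu1, hc]
          calc 3 ^ c ≤ 3 ^ 1 := Nat.pow_le_pow_right (by norm_num) hc2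
            _ = 3 := pow_one 3
        obtain ⟨n, hn⟩ := mem_zpowers_iff.1 (hZu ▸ hu')
        -- `y ^ 2` fixes `u`
        have hu2 : y * y * u * (y * y)⁻¹ = u := by
          have h1 : y * y * u * (y * y)⁻¹ = u ^ (n * n) := by
            rw [show y * y * u * (y * y)⁻¹ = y * (y * u * y⁻¹) * y⁻¹ by group, ← hn, ← conj_zpow,
              ← hn, ← zpow_mul]
          have ho : orderOf u = 3 := orderOf_eq_prime (hD u (mem_inf.1 hu).1) hu1
          rw [h1]
          nth_rewrite 2 [← zpow_one u]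
          rw [zpow_eq_zpow_iff_modEq, ho]
          have hn3 : n % 3 ≠ 0 := by
            intro h0
            refine hu1 (conj_eq_one_iff.1 (?_ : y * u * y⁻¹ = 1))
            rw [← hn, ← orderOf_dvd_iff_zpow_eq_one, ho]
            exact Int.dvd_of_emod_eq_zero h0
          show n * n % 3 = 1 % 3
          rw [Int.mul_emod]
          rcases (show n % 3 = 1 ∨ n % 3 = 2 by omega) with h | h <;> rw [h] <;> norm_num
        refine hne ?_
        have hy2 : y ∈ zpowers (y * y) := by
          have hcop : Nat.Coprime 2 (orderOf y) := by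
            rw [hy]; exact (Nat.coprime_primes Nat.prime_two hp.out).2 (by omega)
          obtain ⟨m, hm⟩ := exists_pow_eq_self_of_coprime hcop
          exact mem_zpowers_iff.2 ⟨m, by rw [zpow_natCast, ← pow_two]; exact hm⟩
        exact mem_centralizer_singleton_iff.1 ((zpowers_le.2
          (mem_centralizer_singleton_iff.2 (mul_inv_eq_iff_eq_mul.1 hu2))) hy2)
      exact ((show Commute y u from hfix).zpow_left i).eq
    have hFb : F = ⊥ := card_eq_one.1 (by rw [hf, pow_zero])
    exact hz1' (mem_bot.1 (hFb ▸ hZF hzZ))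
  refine eq_of_le_of_card_ge inf_le_left ?_
  rw [hd, hf]
  refine Nat.pow_le_pow_right (by norm_num) ?_
  by_contra hlt
  rw [hd, hf] at hmod
  have hdvd : p ∣ 3 ^ d - 3 ^ f :=
    (Nat.modEq_iff_dvd' (Nat.pow_le_pow_right (by norm_num) hfd)).1 hmod.symm
  have hpd : ∀ n, p ∣ n → n ∈ ({2, 6, 8, 18, 24} : Finset ℕ) → False := by
    intro n hn hmem
    have h2 : ¬ p ∣ 2 := fun h => by have := Nat.le_of_dvd (by norm_num) h; omega
    have h3 : ¬ p ∣ 3 := fun h => by have := Nat.le_of_dvd (by norm_num) h; omega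
    simp only [Finset.mem_insert, Finset.mem_singleton] at hmem
    rcases hmem with rfl | rfl | rfl | rfl | rfl
    · exact h2 hn
    · exact ((hp.out.dvd_mul (m := 2) (n := 3)).1 hn).elim h2 h3
    · exact h2 (hp.out.dvd_of_dvd_pow (n := 3) hn)
    · exact ((hp.out.dvd_mul (m := 2) (n := 3 ^ 2)).1 hn).elim h2
        (fun h => h3 (hp.out.dvd_of_dvd_pow h))
    · exact ((hp.out.dvd_mul (m := 2 ^ 3) (n := 3)).1 hn).elim
        (fun h => h2 (hp.out.dvd_of_dvd_pow h)) h3
  refine hpd _ hdvd ?_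
  interval_cases d <;> interval_cases f <;> first | omega | simp_all

/-- An element of prime order `p ≥ 5` normalising a `3`-group of rank at most two centralises it. -/
theorem commute_of_rank_two [hp : Fact p.Prime] (hp5 : 5 ≤ p) {R : Subgroup G} (hR : IsPGroup 3 R)
    (hrk : Cfsg.PRankLE 3 2 R) {y : G} (hy : orderOf y = p) (hyR : y ∈ normalizer (R : Set G)) :
    ∀ x ∈ R, y * x = x * y := by
  have : Fact (Nat.Prime 3) := ⟨Nat.prime_three⟩
  obtain ⟨C₀, hC₀⟩ := Critical.exists_critical hR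
  set C := C₀.map R.subtype with hC
  have hCR : C ≤ R := map_subtype_le _
  have hZ : ∀ c ∈ C, ∀ d ∈ C, ∀ r ∈ C, ⁅c, d⁆ * r = r * ⁅c, d⁆ := by
    rintro _ ⟨c, hc, rfl⟩ _ ⟨d, hd, rfl⟩ _ ⟨r, hr, rfl⟩
    have h := (hC₀.comm_le (commutator_mem_commutator hc (mem_top d))).2
    rw [← map_commutatorElement, ← map_mul, ← map_mul]
    exact congrArg R.subtype (mem_centralizer_iff.1 h r hr).symm
  have hpow : ∀ c ∈ C, ∀ r ∈ C, c ^ 3 * r = r * c ^ 3 := by
    rintro _ ⟨c, hc, rfl⟩ _ ⟨r, hr, rfl⟩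
    rw [← map_pow, ← map_mul, ← map_mul]
    exact congrArg R.subtype (mem_centralizer_iff.1 (hC₀.pow_mem c hc).2 r hr).symm
  -- the elements of order dividing three form a subgroup
  let D : Subgroup G :=
    { carrier := {c | c ∈ C ∧ c ^ 3 = 1}
      one_mem' := ⟨one_mem _, one_pow 3⟩
      mul_mem' := fun {a b} ha hb => ⟨mul_mem ha.1 hb.1, by
        have hk := hZ b hb.1 a ha.1
        have hk3 : ⁅b, a⁆ ^ 3 = 1 := by
          have h1 : ⁅b, a⁆ ^ 3 = ⁅b ^ 3, a⁆ := by
            have e2 : ⁅b ^ 2, a⁆ = ⁅b, a⁆ ^ 2 := by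
              rw [pow_two b, show ⁅b * b, a⁆ = b * ⁅b, a⁆ * b⁻¹ * ⁅b, a⁆ by group,
                ← hk b hb.1, mul_inv_cancel_right, pow_two]
            rw [pow_succ' b 2, show ⁅b * b ^ 2, a⁆ = b * ⁅b ^ 2, a⁆ * b⁻¹ * ⁅b, a⁆ by group, e2,
              show b * ⁅b, a⁆ ^ 2 * b⁻¹ = (b * ⁅b, a⁆ * b⁻¹) ^ 2 from conj_pow.symm,
              ← hk b hb.1, mul_inv_cancel_right, pow_succ ⁅b, a⁆ 2]
          rw [h1, hb.2]
          simp
        have c1 : Commute ⁅b, a⁆ a := hk a ha.1
        have c2 : Commute ⁅b, a⁆ b := hk b hb.1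
        have hba : b * a = ⁅b, a⁆ * (a * b) := by group
        have h2 : (a * b) ^ 2 = ⁅b, a⁆ * (a ^ 2 * b ^ 2) := by
          calc (a * b) ^ 2 = a * (b * a) * b := by rw [pow_two]; group
            _ = a * ⁅b, a⁆ * (a * b * b) := by rw [hba]; group
            _ = ⁅b, a⁆ * (a ^ 2 * b ^ 2) := by rw [← c1.eq]; simp [pow_two, mul_assoc]
        have hb2a : b ^ 2 * a = ⁅b, a⁆ ^ 2 * (a * b ^ 2) := by
          calc b ^ 2 * a = b * (b * a) := by rw [pow_two, mul_assoc]
            _ = b * ⁅b, a⁆ * (a * b) := by rw [hba]; group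
            _ = ⁅b, a⁆ * (b * a) * b := by rw [← c2.eq]; group
            _ = ⁅b, a⁆ ^ 2 * (a * b ^ 2) := by rw [hba]; simp [pow_two, mul_assoc]
        calc (a * b) ^ 3 = (a * b) ^ 2 * (a * b) := pow_succ _ 2
          _ = ⁅b, a⁆ * (a ^ 2 * (b ^ 2 * a) * b) := by rw [h2]; group
          _ = ⁅b, a⁆ * (a ^ 2 * ⁅b, a⁆ ^ 2) * (a * b ^ 3) := by rw [hb2a]; group
          _ = ⁅b, a⁆ ^ 3 * (a ^ 3 * b ^ 3) := by
              rw [← ((c1.pow_left 2).pow_right 2).eq]; group
          _ = 1 := by rw [hk3, ha.2, hb.2]; simp⟩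
      inv_mem' := fun {a} ha => ⟨inv_mem ha.1, by rw [inv_pow, ha.2, inv_one]⟩ }
  have hDR : D ≤ R := fun c hc => hCR hc.1
  have hrkD : ∀ E : Subgroup D, Cfsg.IsElementaryAbelian 3 E → Nat.card E ≤ 3 ^ 2 := fun E hE => by
    have h := OddUniq.pRankLE_of_injective (f := inclusion hDR) (inclusion_injective hDR) hrk
    exact h E hE.1 hE.2
  have hcard := PLemmas.card_le_cube (p := 3) (G := D) (fun c => Subtype.ext c.2.2) hrkD
  have hnab : Nat.card D = 27 → ¬ IsMulCommutative D := fun h27 hc => by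
    have := hrk (D.subgroupOf R) ?_ ?_
    · rw [Nat.card_congr (subgroupOfEquivOfLe hDR).toEquiv, h27] at this
      norm_num at this
    · refine ⟨⟨fun a b => Subtype.ext (Subtype.ext ?_)⟩⟩
      exact congrArg (fun u : D => (u : G)) (mul_comm' (⟨(a.1 : G), a.2⟩ : D) ⟨(b.1 : G), b.2⟩)
    · intro a ha
      exact Subtype.ext (show (a : G) ^ 3 = 1 from (show (a : G) ∈ C ∧ (a : G) ^ 3 = 1 from ha).2)
  have hyC : y ∈ normalizer (C : Set G) :=
    Coprime.normalizer_le_normalizer_map_of_characteristic (K := R) C₀ (hC := hC₀.char) hyR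
  have hyD : y ∈ normalizer (D : Set G) := mem_normalizer_iff.2 fun c => by
    refine and_congr (mem_normalizer_iff.1 hyC c) ?_
    show c ^ 3 = 1 ↔ (y * c * y⁻¹) ^ 3 = 1
    rw [conj_pow, conj_eq_one_iff]
  have hfixD := commute_of_card_le hp5 (fun c (hc : c ∈ C ∧ c ^ 3 = 1) => hc.2) hcard hnab hy hyD
  have hcop : (orderOf y).Coprime 3 := by
    rw [hy]; exact (Nat.coprime_primes hp.out Nat.prime_three).2 (by omega)
  have hfixC : ∀ x ∈ C, y * x = x * y :=
    CoprimeOmega.commute_of_commute_order_p (by norm_num) hcop (hR.to_le hCR)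
      (fun x hx => (mem_normalizer_iff.1 hyC x).1 hx) fun x hx h3 => hfixD x ⟨hx, h3⟩
  have hRC : ⁅R, C⁆ ≤ C := by
    refine commutator_le.2 ?_
    rintro r hr _ ⟨c, hc, rfl⟩
    refine ⟨⁅(⟨r, hr⟩ : R), c⁆, ?_, rfl⟩
    rw [← commutatorElement_inv]
    exact inv_mem (hC₀.comm_le (commutator_mem_commutator hc (mem_top _))).1
  have hcent : R ⊓ centralizer (C : Set G) ≤ C := fun r hr => by
    refine ⟨⟨r, hr.1⟩, hC₀.centralizer_le (mem_centralizer_iff.2 fun c hc => Subtype.ext ?_), rfl⟩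
    exact mem_centralizer_iff.1 hr.2 _ (mem_map_of_mem R.subtype hc)
  have hcopR : (Nat.card (zpowers y)).Coprime (Nat.card R) := by
    obtain ⟨n, hn⟩ := IsPGroup.iff_card.1 hR
    rw [Nat.card_zpowers, hn]
    exact hcop.pow_right n
  have hY := Critical.le_centralizer_of_le_centralizer_critical hCR hRC hcent (zpowers_le.2 hyR)
    hcopR (zpowers_le.2 (mem_centralizer_iff.2 fun c hc => (hfixC c hc).symm))
  exact fun x hx => (mem_centralizer_iff.1 (hY (mem_zpowers y)) x hx).symm

/-- In a solvable `{3, p}`-group of `3`-rank at most two, `p ≥ 5`, the Sylow `p`-subgroup is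
normal. -/
theorem not_dvd_index_pCore {H : Type*} [Group H] [Finite H] [Group.IsSolvable H]
    [hp : Fact p.Prime] (hp5 : 5 ≤ p) (hπ : ∀ q, q.Prime → q ∣ Nat.card H → q = 3 ∨ q = p)
    (hrk : Cfsg.PRankLE 3 2 H) : ¬ p ∣ (Cfsg.pCore p H).index := by
  have : Fact (Nat.Prime 3) := ⟨Nat.prime_three⟩
  set N := Cfsg.pCore p H with hN
  have hNp : IsPGroup p N := PSolvable.pCore_isPGroup
  haveI hNn : N.Normal := Subgroup.sSup_normal _ (fun _ h => h.1)
  set Q := H ⧸ N
  set π := QuotientGroup.mk' N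
  have hQcard : Nat.card Q ∣ Nat.card H := N.card_quotient_dvd_card
  have hcore : Cfsg.pCore p Q = ⊥ := PSolvable.pCore_quotient_eq_bot
  -- the rank passes to the quotient
  have hrkQ : Cfsg.PRankLE 3 2 Q := by
    intro A hAc hAp
    have hA3 : IsPGroup 3 A := fun a => ⟨1, by rw [pow_one]; exact Subtype.ext (hAp a a.2)⟩
    set K := A.comap π with hK
    have hNK : N ≤ K := fun x hx => mem_comap.2 (by
      rw [show π x = 1 from (QuotientGroup.eq_one_iff x).2 hx]; exact one_mem _)
    set N' := N.subgroupOf K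
    have hidx : N'.index = Nat.card A := by
      show N.relIndex K = _
      have h := relIndex_comap (f := π) (⊥ : Subgroup Q) K
      rw [MonoidHom.comap_bot, QuotientGroup.ker_mk', relIndex_bot_left,
        map_comap_eq_self_of_surjective (QuotientGroup.mk'_surjective N)] at h
      exact h
    have hcop : (Nat.card N').Coprime N'.index := by
      rw [Nat.card_congr (subgroupOfEquivOfLe hNK).toEquiv, hidx]
      obtain ⟨a, ha⟩ := IsPGroup.iff_card.1 hNp
      obtain ⟨b, hb⟩ := IsPGroup.iff_card.1 hA3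
      rw [ha, hb]
      exact Nat.Coprime.pow a b ((Nat.coprime_primes hp.out Nat.prime_three).2 (by omega))
    obtain ⟨T, hT⟩ := exists_right_complement'_of_coprime hcop
    have hTcard : Nat.card T = Nat.card A := by rw [← hidx, hT.symm.index_eq_card]
    let f : T →* Q := (π.comp K.subtype).comp T.subtype
    have hf : Function.Injective f := (injective_iff_map_eq_one f).2 fun t ht => by
      have h1 : (t : ↥K) ∈ N' := mem_subgroupOf.2 ((QuotientGroup.eq_one_iff _).1 ht)
      have := hT.disjoint.le_bot ⟨h1, t.2⟩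
      exact Subtype.ext (mem_bot.1 this)
    have hfA : ∀ t : T, f t ∈ A := fun t => (t : ↥K).2
    have h3 : ∀ t : T, t ^ 3 = 1 := fun t => hf (by
      rw [map_pow, map_one]
      exact hAp (f t) (hfA t))
    have hTc : IsMulCommutative T := ⟨⟨fun s t => hf (by
      rw [map_mul, map_mul]
      exact congrArg Subtype.val (mul_comm' (⟨f s, hfA s⟩ : A) ⟨f t, hfA t⟩))⟩⟩
    have hle := OddUniq.pRankLE_of_injective (f := K.subtype.comp T.subtype)
      (K.subtype_injective.comp T.subtype_injective) hrk ⊤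
      ⟨⟨fun s t => Subtype.ext (mul_comm' s.1 t.1)⟩⟩ (fun s _ => h3 s)
    rw [card_top, hTcard] at hle
    exact hle
  rw [Subgroup.index_eq_card]
  intro hdvd
  obtain ⟨y, hy⟩ := exists_prime_orderOf_dvd_card' p hdvd
  set R := Cfsg.pCore 3 Q with hR
  have hRp : IsPGroup 3 R := PSolvable.pCore_isPGroup
  haveI hRn : R.Normal := Subgroup.sSup_normal _ (fun _ h => h.1)
  have h0 : Cfsg.pPrimeCore 3 Q = ⊥ := by
    refine (sSup_eq_bot.2 ?_)
    rintro M ⟨hMn, hMcop⟩
    haveI := hMn
    rw [← le_bot_iff, ← hcore]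
    refine PSolvable.le_pCore (IsPGroup.of_card (n := (Nat.card M).primeFactorsList.length) ?_)
    refine Nat.eq_prime_pow_of_unique_prime_dvd Nat.card_pos.ne' fun {q} hq hqd => ?_
    refine (hπ q hq ((hqd.trans M.card_subgroup_dvd_card).trans hQcard)).resolve_left fun h3 => ?_
    subst h3
    exact Nat.not_coprime_of_dvd_of_dvd (by norm_num) hqd dvd_rfl hMcop
  have hCR := PSolvable.centralizer_pCore_le_of_isPSolvable (p := 3)
    PSolvable.isPSolvable_of_isSolvable h0
  have hyR : y ∈ normalizer (R : Set Q) := by rw [normalizer_eq_top]; exact mem_top y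
  have hrkR : Cfsg.PRankLE 3 2 R :=
    OddUniq.pRankLE_of_injective (f := R.subtype) R.subtype_injective hrkQ
  have hfix := commute_of_rank_two hp5 hRp hrkR hy hyR
  have hyin : y ∈ R := hCR (mem_centralizer_iff.2 fun x hx => (hfix x hx).symm)
  obtain ⟨n, hn⟩ := IsPGroup.iff_card.1 hRp
  have h1 : orderOf y ∣ 3 ^ n := hn ▸ Subgroup.orderOf_dvd_natCard _ hyin
  rw [hy] at h1
  have := (Nat.prime_dvd_prime_iff_eq hp.out Nat.prime_three).1 (hp.out.dvd_of_dvd_pow h1)
  omega

end Cfsg.Agent.Lib.ThreeRankTwo
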